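import Groth.Agent.TameEt.Basic

/-! Valuation subrings of finite separable extensions over a DVR are essentially of finite type. -/

universe u

namespace Groth.Agent.TameEt

open IsLocalRing

theorem essFiniteType_of_dominates (A : Type u) [CommRing A] [IsDomain A] [IsDiscreteValuationRing A]
    (K : Type u) [Field K] [Algebra A K] [IsFractionRing A K] {L : Type u} [Field L] [Algebra K L]
    [FiniteDimensional K L] [Algebra.IsSeparable K L] (g : A →+* L)
    (hgK : g = (algebraMap K L).comp (algebraMap A K))
    (V : ValuationSubring L) (hV : EtRam.Dominates A g V) :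
    letI : Algebra A V := (RingHom.codRestrict g V hV.1).toAlgebra
    Algebra.EssFiniteType A V := by
  let algAV : Algebra A V := (RingHom.codRestrict g V hV.1).toAlgebra
  let : Algebra A L := g.toAlgebra
  have : IsScalarTower A K L := IsScalarTower.of_algebraMap_eq fun a => DFunLike.congr_fun hgK a
  have : IsScalarTower A V L := IsScalarTower.of_algebraMap_eq fun _ => rfl
  let C := integralClosure A L
  have : IsDedekindDomain C := integralClosure.isDedekindDomain A K L
  have : Module.Finite A C := IsIntegralClosure.finite A K L C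
  have : IsFractionRing C L :=
    IsIntegralClosure.isFractionRing_of_finite_extension A K L C
  have hmem : ∀ c : C, (c : L) ∈ V := fun c =>
    mem_of_finite g (algebraMap C L) (RingHom.ext fun a => rfl) V hV c
  let ψ : C →+* V := (algebraMap C L).codRestrict V hmem
  let q : Ideal C := (maximalIdeal V).comap ψ
  have hqu : ∀ s : q.primeCompl, IsUnit (ψ s) := fun s =>
    not_not.1 fun h => s.2 ((mem_maximalIdeal _).2 h)
  have hginj : Function.Injective g := by
    rw [hgK]; exact (algebraMap K L).injective.comp (IsFractionRing.injective A K)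
  obtain ⟨π₀, hπ₀⟩ := IsDiscreteValuationRing.exists_irreducible A
  have hq : q ≠ ⊥ := by
    intro h
    have h1 : algebraMap A C π₀ ∈ q := by
      have hlt := hV.2 π₀ (hπ₀.maximalIdeal_eq ▸ Ideal.mem_span_singleton_self π₀)
      exact (V.valuation_lt_one_iff ⟨g π₀, hV.1 π₀⟩).2 hlt
    rw [h, Ideal.mem_bot] at h1
    refine hπ₀.ne_zero (hginj ?_)
    rw [map_zero]
    exact congrArg Subtype.val h1
  let R := Localization.AtPrime q
  have : IsDiscreteValuationRing R :=
    IsLocalization.AtPrime.isDiscreteValuationRing_of_dedekind_domain C hq R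
  let ρ : R →+* V := IsLocalization.lift hqu
  have hρ : ∀ b, ρ (algebraMap C R b) = ψ b := fun b => IsLocalization.lift_eq hqu b
  have : IsLocalHom ρ := by
    refine ⟨fun r hr => ?_⟩
    obtain ⟨b, s, rfl⟩ := IsLocalization.exists_mk'_eq q.primeCompl r
    rw [IsLocalization.AtPrime.isUnit_mk'_iff R q]
    intro hb
    have h1 : IsUnit (ψ b) := by
      rw [← hρ b, ← IsLocalization.mk'_spec' R b s, map_mul, hρ]
      exact (hqu s).mul hr
    exact (mem_maximalIdeal _).1 hb h1
  obtain ⟨π, hπ⟩ := IsDiscreteValuationRing.exists_irreducible R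
  have hψinj : Function.Injective ψ := fun x y h => by
    exact Subtype.ext (congrArg (fun v : V => (v : L)) h)
  have hπ0 : ρ π ≠ 0 := by
    obtain ⟨b, s, rfl⟩ := IsLocalization.exists_mk'_eq q.primeCompl π
    intro h
    refine hπ.ne_zero ?_
    have h1 : ψ b = ψ 0 := by
      rw [map_zero, ← hρ, ← IsLocalization.mk'_spec' R b s, map_mul, h, mul_zero]
    rw [hψinj h1, IsLocalization.mk'_zero]
  have hsurj : Function.Surjective ρ := by
    refine surjective_of_isFraction ρ V.subtype Subtype.val_injective hπ.maximalIdeal_eq hπ0 fun v => ?_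
    obtain ⟨b, b', hb', hbb⟩ := IsFractionRing.div_surjective C (v : L)
    have hb'0 : algebraMap C L b' ≠ 0 :=
      IsFractionRing.to_map_ne_zero_of_mem_nonZeroDivisors hb'
    refine ⟨algebraMap C R b, algebraMap C R b', ?_, ?_⟩
    · rw [hρ]; exact hb'0
    · rw [hρ, hρ]
      change (v : L) * algebraMap C L b' = algebraMap C L b
      rw [← hbb, div_mul_cancel₀ _ hb'0]
  let ρa : R →ₐ[A] V := { ρ with
    commutes' := fun a => by
      change ρ (algebraMap A R a) = _
      rw [IsScalarTower.algebraMap_apply A C R, hρ]
      rfl }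
  let : Algebra R V := ρ.toAlgebra
  have : IsScalarTower A R V := IsScalarTower.of_algebraMap_eq fun a => (ρa.commutes a).symm
  have : Algebra.EssFiniteType C R := Algebra.EssFiniteType.of_isLocalization R q.primeCompl
  have : Algebra.EssFiniteType A R := Algebra.EssFiniteType.comp A C R
  have : Algebra.FiniteType R V := Algebra.FiniteType.of_surjective (Algebra.ofId R V) hsurj
  exact Algebra.EssFiniteType.comp A R V

end Groth.Agent.TameEt
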