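import Mathlib
import Groth.Prelude.Def_EtRam

/-! Finite unramified algebras over a discrete valuation ring give tamely ramified extensions. -/

universe u

namespace Groth.Agent.TameEt

open IsLocalRing

theorem exists_eq_mul_pow {R : Type u} [CommRing R] [IsLocalRing R] [IsNoetherianRing R] {π : R}
    (hπ : maximalIdeal R = Ideal.span {π}) {x : R} (hx : x ≠ 0) :
    ∃ (n : ℕ) (w : R), IsUnit w ∧ x = w * π ^ n := by
  classical
  have hex : ∃ n, x ∉ maximalIdeal R ^ n := by
    by_contra h
    push Not at h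
    refine hx ?_
    have := Ideal.iInf_pow_eq_bot_of_isLocalRing (maximalIdeal R) (maximalIdeal.isMaximal R).ne_top
    rw [← Ideal.mem_bot, ← this]
    exact Ideal.mem_iInf.2 h
  obtain ⟨m, hm⟩ : ∃ m, Nat.find hex = m + 1 := by
    refine Nat.exists_eq_succ_of_ne_zero fun h0 => ?_
    have := Nat.find_spec hex
    rw [h0] at this
    simp at this
  have h1 : x ∈ maximalIdeal R ^ m := not_not.1 (Nat.find_min hex (hm ▸ m.lt_succ_self))
  have h2 : x ∉ maximalIdeal R ^ (m + 1) := hm ▸ Nat.find_spec hex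
  rw [hπ, Ideal.span_singleton_pow, Ideal.mem_span_singleton'] at h1 h2
  obtain ⟨w, rfl⟩ := h1
  refine ⟨m, w, ?_, rfl⟩
  by_contra hw
  have hw' : w ∈ Ideal.span {π} := hπ ▸ (mem_maximalIdeal w).2 hw
  obtain ⟨c, rfl⟩ := Ideal.mem_span_singleton'.1 hw'
  exact h2 ⟨c, by ring⟩

theorem surjective_of_isFraction {R V L : Type u} [CommRing R] [IsLocalRing R] [IsNoetherianRing R]
    [CommRing V] [IsDomain V] [CommRing L] (ρ : R →+* V) [IsLocalHom ρ]
    (ι : V →+* L) (hι : Function.Injective ι) {π : R} (hπ : maximalIdeal R = Ideal.span {π})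
    (hπ0 : ρ π ≠ 0)
    (hgen : ∀ v : V, ∃ x y : R, ι (ρ y) ≠ 0 ∧ ι v * ι (ρ y) = ι (ρ x)) :
    Function.Surjective ρ := by
  intro v
  obtain ⟨x, y, hy, hxy⟩ := hgen v
  rw [← map_mul] at hxy
  replace hxy := hι hxy
  have hy0 : ρ y ≠ 0 := fun h => hy (by rw [h, map_zero])
  by_cases hx : x = 0
  · refine ⟨0, ?_⟩
    rw [hx, map_zero, mul_eq_zero] at hxy
    rw [map_zero, hxy.resolve_right hy0]
  obtain ⟨n, w, hw, rfl⟩ := exists_eq_mul_pow hπ hx
  obtain ⟨m, w', hw', rfl⟩ := exists_eq_mul_pow hπ (x := y) (fun h => hy0 (by rw [h, map_zero]))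
  obtain ⟨w'', hw''⟩ := hw'.exists_right_inv
  by_cases hnm : m ≤ n
  · obtain ⟨d, rfl⟩ := Nat.exists_eq_add_of_le hnm
    refine ⟨w * w'' * π ^ d, mul_right_cancel₀ hy0 ?_⟩
    rw [hxy, ← map_mul]
    congr 1
    linear_combination (w * π ^ d * π ^ m) * hw''
  · obtain ⟨d, rfl⟩ := Nat.exists_eq_add_of_le (Nat.le_of_lt (Nat.lt_of_not_le hnm))
    exfalso
    have h : ρ π ^ n * (v * ρ w' * ρ π ^ d) = ρ π ^ n * ρ w := by
      rw [map_mul, map_mul, map_pow, map_pow, pow_add] at hxy
      linear_combination hxy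
    replace h := mul_left_cancel₀ (pow_ne_zero _ hπ0) h
    have hu : IsUnit (v * ρ w' * ρ π ^ d) := h ▸ hw.map ρ
    have hd : d ≠ 0 := by omega
    have : IsUnit (ρ π) := (isUnit_pow_iff hd).1 (isUnit_of_mul_isUnit_right hu)
    have hπu : IsUnit π := isUnit_of_map_unit ρ π this
    exact (mem_maximalIdeal π).1 (hπ ▸ Ideal.mem_span_singleton_self π) hπu

theorem unramified_at_of_essFiniteType {A : Type u} [CommRing A] [IsDomain A]
    [IsDiscreteValuationRing A] {B : Type u} [CommRing B] [IsNoetherianRing B] [Algebra A B]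
    [Algebra.FormallyUnramified A B] [Algebra.EssFiniteType A B] {L : Type u} [Field L] (g : A →+* L)
    (hg : Function.Injective g) (φ : B →+* L) (hφ : φ.comp (algebraMap A B) = g)
    (hgen : ∀ v : L, ∃ b b', φ b' ≠ 0 ∧ v * φ b' = φ b)
    (V : ValuationSubring L) (hV : EtRam.Dominates A g V) (hmem : ∀ b, φ b ∈ V) :
    letI : Algebra A V := (RingHom.codRestrict g V hV.1).toAlgebra
    ∀ [IsLocalHom (algebraMap A V)],
      EtRam.IsWeaklyUnramified A V ∧ Algebra.IsSeparable (ResidueField A) (ResidueField V) ∧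
        Ideal.ramificationIdx' (maximalIdeal A) (maximalIdeal V) = 1 := by
  let algAV : Algebra A V := (RingHom.codRestrict g V hV.1).toAlgebra
  intro hloc
  let ψ : B →+* V := φ.codRestrict V hmem
  have hψalg : ψ.comp (algebraMap A B) = algebraMap A V :=
    RingHom.ext fun a => Subtype.ext (DFunLike.congr_fun hφ a)
  let q : Ideal B := (maximalIdeal V).comap ψ
  have hqu : ∀ s : q.primeCompl, IsUnit (ψ s) := fun s =>
    not_not.1 fun h => s.2 ((mem_maximalIdeal _).2 h)
  let R := Localization.AtPrime q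
  let ρ : R →+* V := IsLocalization.lift hqu
  have hρ : ∀ b, ρ (algebraMap B R b) = ψ b := fun b => IsLocalization.lift_eq hqu b
  have : IsLocalHom ρ := by
    refine ⟨fun r hr => ?_⟩
    obtain ⟨b, s, rfl⟩ := IsLocalization.exists_mk'_eq q.primeCompl r
    rw [IsLocalization.AtPrime.isUnit_mk'_iff R q]
    intro hb
    have h1 : IsUnit (ψ b) := by
      rw [← hρ b, ← IsLocalization.mk'_spec' R b s, map_mul, hρ]
      exact (hqu s).mul hr
    exact (mem_maximalIdeal _).1 hb h1
  have hρalg : ρ.comp (algebraMap A R) = algebraMap A V := RingHom.ext fun a => by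
    rw [RingHom.comp_apply, IsScalarTower.algebraMap_apply A B R, hρ, ← hψalg, RingHom.comp_apply]
  have : IsLocalHom (ρ.comp (algebraMap A R)) := by rw [hρalg]; exact hloc
  have : IsLocalHom (algebraMap A R) := isLocalHom_of_comp (algebraMap A R) ρ
  have : IsNoetherianRing R := IsLocalization.isNoetherianRing q.primeCompl R inferInstance
  have : Algebra.FormallyUnramified B R :=
    Algebra.FormallyUnramified.of_isLocalization q.primeCompl
  have : Algebra.FormallyUnramified A R := Algebra.FormallyUnramified.comp A B R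
  have : Algebra.EssFiniteType B R := Algebra.EssFiniteType.of_isLocalization R q.primeCompl
  have : Algebra.EssFiniteType A R := Algebra.EssFiniteType.comp A B R
  obtain ⟨π, hπirr⟩ := IsDiscreteValuationRing.exists_irreducible A
  have hπ : maximalIdeal R = Ideal.span {algebraMap A R π} := by
    rw [← Algebra.FormallyUnramified.map_maximalIdeal (R := A) (S := R), hπirr.maximalIdeal_eq,
      Ideal.map_span, Set.image_singleton]
  have hπ0 : ρ (algebraMap A R π) ≠ 0 := by
    intro h
    refine hπirr.ne_zero (hg ?_)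
    rw [← RingHom.comp_apply, hρalg] at h
    rw [map_zero]
    exact congrArg Subtype.val h
  have hsurj : Function.Surjective ρ := by
    refine surjective_of_isFraction ρ V.subtype Subtype.val_injective hπ hπ0 fun v => ?_
    obtain ⟨b, b', hb', hbb⟩ := hgen v
    refine ⟨algebraMap B R b, algebraMap B R b', ?_, ?_⟩
    · rw [hρ]; exact hb'
    · rw [hρ, hρ]; exact hbb
  have hmV : (maximalIdeal A).map (algebraMap A V) = maximalIdeal V := by
    rw [← hρalg, ← Ideal.map_map, Algebra.FormallyUnramified.map_maximalIdeal (R := A) (S := R)]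
    refine le_antisymm ?_ ?_
    · exact ((local_hom_TFAE ρ).out 0 2 rfl rfl).1 ‹_›
    · intro v hv
      obtain ⟨r, rfl⟩ := hsurj v
      exact Ideal.mem_map_of_mem ρ ((mem_maximalIdeal r).2 fun hu => (mem_maximalIdeal _).1 hv (hu.map ρ))
  have : IsNoetherianRing V := isNoetherianRing_of_surjective R V ρ hsurj
  have h1 : Ideal.ramificationIdx' (maximalIdeal A) (maximalIdeal V) = 1 := by
    refine Ideal.ramificationIdx'_spec (by rw [hmV, pow_one]) fun hle => ?_
    rw [hmV] at hle
    have hbot : maximalIdeal V = ⊥ := by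
      refine Submodule.eq_bot_of_le_smul_of_le_jacobson_bot (maximalIdeal V) (maximalIdeal V)
        (IsNoetherian.noetherian _) ?_ (maximalIdeal_le_jacobson _)
      rwa [pow_two, ← smul_eq_mul] at hle
    refine hπ0 ?_
    have : ρ (algebraMap A R π) ∈ maximalIdeal V := by
      rw [← RingHom.comp_apply, hρalg, ← hmV]
      exact Ideal.mem_map_of_mem _ (hπirr.maximalIdeal_eq ▸ Ideal.mem_span_singleton_self π)
    exact Ideal.mem_bot.1 (hbot.le this)
  refine ⟨hmV, ?_, h1⟩
  have : Algebra.IsSeparable (ResidueField A) (ResidueField R) := inferInstance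
  let e : ResidueField R →ₐ[ResidueField A] ResidueField V :=
    { ResidueField.map ρ with
      commutes' := fun x => by
        obtain ⟨a, rfl⟩ := residue_surjective x
        exact congrArg (residue V) (DFunLike.congr_fun hρalg a) }
  have he : Function.Bijective e := by
    refine ⟨RingHom.injective _, fun y => ?_⟩
    obtain ⟨v, rfl⟩ := residue_surjective y
    obtain ⟨r, rfl⟩ := hsurj v
    exact ⟨residue R r, rfl⟩
  exact AlgEquiv.Algebra.isSeparable (AlgEquiv.ofBijective e he)

theorem mem_of_finite {A : Type u} [CommRing A] [IsLocalRing A] {B : Type u} [CommRing B] [Algebra A B]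
    [Algebra.IsIntegral A B] {L : Type u} [Field L] (g : A →+* L)
    (φ : B →+* L) (hφ : φ.comp (algebraMap A B) = g) (V : ValuationSubring L)
    (hV : EtRam.Dominates A g V) (b : B) : φ b ∈ V := by
  let : Algebra A V := (RingHom.codRestrict g V hV.1).toAlgebra
  let : Algebra A L := g.toAlgebra
  have : IsScalarTower A V L := IsScalarTower.of_algebraMap_eq fun _ => rfl
  let φa : B →ₐ[A] L := { φ with commutes' := fun a => DFunLike.congr_fun hφ a }
  have h1 : IsIntegral A (φa b) := (Algebra.IsIntegral.isIntegral b).map φa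
  obtain ⟨z, hz⟩ := IsIntegrallyClosed.isIntegral_iff.1 (h1.tower_top (A := V))
  exact hz ▸ z.2

theorem isTamelyRamified_of_finite_unramified {A : Type u} [CommRing A] [IsDomain A]
    [IsDiscreteValuationRing A] {B : Type u} [CommRing B] [Algebra A B]
    [Algebra.FormallyUnramified A B] [Module.Finite A B] {L : Type u} [Field L] (g : A →+* L)
    (hg : Function.Injective g) (φ : B →+* L) (hφ : φ.comp (algebraMap A B) = g)
    (hgen : ∀ v : L, ∃ b b', φ b' ≠ 0 ∧ v * φ b' = φ b) :
    EtRam.IsTamelyRamified A g := by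
  intro V hV
  let algAV : Algebra A V := (RingHom.codRestrict g V hV.1).toAlgebra
  intro hloc
  have : IsNoetherianRing B := IsNoetherianRing.of_finite A B
  obtain ⟨-, hsep, he⟩ := unramified_at_of_essFiniteType g hg φ hφ hgen V hV
    (mem_of_finite g φ hφ V hV)
  refine ⟨hsep, fun p hp _ => ?_⟩
  rw [he, Nat.dvd_one]
  exact hp.ne_one

end Groth.Agent.TameEt
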